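import Mathlib

/-!
Adically complete rings: Noetherianity, change of ideal, closed submodules.
-/

namespace Groth.Agent.CAlgCompl

universe u

section Basic

variable {A : Type u} [CommRing A] {I : Ideal A} {M : Type u} [AddCommGroup M] [Module A M]

theorem pow_smul_top_mono {m n : ℕ} (h : m ≤ n) :
    (I ^ n • ⊤ : Submodule A M) ≤ I ^ m • ⊤ :=
  Submodule.smul_mono_left (Ideal.pow_le_pow_right h)

theorem mem_pow_smul_top_self {n : ℕ} {a : A} : a ∈ (I ^ n • ⊤ : Submodule A A) ↔ a ∈ I ^ n := by
  rw [smul_eq_mul, Ideal.mul_top]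

theorem eq_zero_of_forall_mem [IsHausdorff I M] {x : M} (h : ∀ n, x ∈ (I ^ n • ⊤ : Submodule A M)) :
    x = 0 :=
  IsHausdorff.haus ‹_› x fun n => by rw [SModEq.zero]; exact h n

theorem exists_limit [IsPrecomplete I M] (f : ℕ → M)
    (hf : ∀ n, f (n + 1) - f n ∈ (I ^ n • ⊤ : Submodule A M)) :
    ∃ L : M, ∀ n, f n - L ∈ (I ^ n • ⊤ : Submodule A M) := by
  have h : ∀ m n, m ≤ n → f n - f m ∈ (I ^ m • ⊤ : Submodule A M) := by
    intro m n hmn
    obtain ⟨k, rfl⟩ := Nat.exists_eq_add_of_le hmn
    induction k with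
    | zero => simp
    | succ k ih =>
      rw [← sub_add_sub_cancel (f (m + (k + 1))) (f (m + k))]
      exact add_mem (pow_smul_top_mono (Nat.le_add_right m k) (hf (m + k))) (ih (Nat.le_add_right m k))
  obtain ⟨L, hL⟩ := IsPrecomplete.prec (I := I) inferInstance (f := f) fun {m n} hmn => by
    rw [SModEq.sub_mem, ← neg_sub]
    exact neg_mem (h m n hmn)
  exact ⟨L, fun n => SModEq.sub_mem.1 (hL n)⟩

theorem isPrecomplete_of_exists_limit
    (h : ∀ f : ℕ → M, (∀ n, f (n + 1) - f n ∈ (I ^ n • ⊤ : Submodule A M)) →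
      ∃ L, ∀ n, f n - L ∈ (I ^ n • ⊤ : Submodule A M)) : IsPrecomplete I M := by
  refine ⟨fun f hf => ?_⟩
  obtain ⟨L, hL⟩ := h f fun n => by
    rw [← neg_sub]; exact neg_mem (SModEq.sub_mem.1 (hf (Nat.le_succ n)))
  exact ⟨L, fun n => SModEq.sub_mem.2 (hL n)⟩

end Basic

/-- A ring complete along a finitely generated ideal with Noetherian quotient is Noetherian. -/
theorem isNoetherianRing_of_isAdicComplete {S : Type u} [CommRing S] (J : Ideal S) (hJ : J.FG)
    [IsAdicComplete J S] [IsNoetherianRing (S ⧸ J)] : IsNoetherianRing S := by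
  classical
  by_contra hN
  obtain ⟨I₀, hI₀⟩ : ∃ I : Ideal S, ¬ I.FG := by
    by_contra h
    push Not at h
    exact hN ((isNoetherianRing_iff_ideal_fg S).2 h)
  obtain ⟨P, -, hP⟩ : ∃ M, I₀ ≤ M ∧ Maximal (¬ Submodule.FG ·) M := by
    refine zorn_le_nonempty₀ {I : Ideal S | ¬ I.FG} (fun C hC₁ hC₂ I hI => ⟨sSup C, ?_, fun _ => le_sSup⟩) I₀ hI₀
    intro hfg
    obtain ⟨G, hG⟩ := hfg
    obtain ⟨K, hK, hGK⟩ : ∃ K ∈ C, (G : Set S) ⊆ K := by
      refine hC₂.directedOn.exists_mem_subset_of_finset_subset_biUnion ⟨I, hI⟩ (fun x hx => ?_)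
      simp only [Set.mem_iUnion, SetLike.mem_coe, exists_prop]
      exact (Submodule.mem_sSup_of_directed ⟨I, hI⟩ hC₂.directedOn).1 (hG ▸ Submodule.subset_span hx)
    exact hC₁ hK ⟨G, le_antisymm (Submodule.span_le.2 hGK) ((le_sSup hK).trans hG.ge)⟩
  haveI hPp : P.IsPrime := Ideal.isOka_fg.isPrime_of_maximal_not hP
  apply hP.prop
  by_cases hJP : J ≤ P
  · exact Submodule.fg_of_fg_map_of_fg_inf_ker (Submodule.mkQ J) (by
      have h1 : (P.map (Ideal.Quotient.mk J)).FG := IsNoetherian.noetherian _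
      have h2 : (Submodule.map (Submodule.mkQ J) P : Submodule S (S ⧸ J)) =
          (P.map (Ideal.Quotient.mk J)).restrictScalars S := by
        ext x
        rw [Submodule.restrictScalars_mem, Ideal.mem_map_iff_of_surjective _ Ideal.Quotient.mk_surjective]
        exact Iff.rfl
      rw [h2]
      exact Submodule.FG.restrictScalars_of_surjective h1 Ideal.Quotient.mk_surjective) (by
      rw [Submodule.ker_mkQ, inf_eq_right.2 hJP]
      exact hJ)
  obtain ⟨x, hxJ, hxP⟩ := SetLike.not_le_iff_exists.1 hJP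
  have hQ : (P ⊔ Ideal.span {x}).FG := by
    by_contra h
    exact hxP (hP.le_of_ge h le_sup_left (Ideal.mem_sup_right (Ideal.mem_span_singleton_self x)))
  obtain ⟨n, q, hq⟩ := Submodule.fg_iff_exists_fin_generating_family.1 hQ
  have hdec : ∀ i, ∃ p ∈ P, ∃ c, q i = p + c * x := fun i => by
    have : q i ∈ P ⊔ Ideal.span {x} := hq ▸ Submodule.subset_span ⟨i, rfl⟩
    obtain ⟨a, ha, b, hb, hab⟩ := Submodule.mem_sup.1 this
    obtain ⟨c, rfl⟩ := Ideal.mem_span_singleton'.1 hb
    exact ⟨a, ha, c, hab.symm⟩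
  choose p hp c hc using hdec
  have hstep : ∀ y ∈ P, ∃ (a : Fin n → S) (b : S), b ∈ P ∧ y = ∑ i, a i * p i + b * x := by
    intro y hy
    obtain ⟨a, ha⟩ := (Submodule.mem_span_range_iff_exists_fun S).1
      (hq.ge (Ideal.mem_sup_left hy) : y ∈ Submodule.span S (Set.range q))
    have hsum : y = ∑ i, a i * p i + (∑ i, a i * c i) * x := by
      rw [← ha, Finset.sum_mul, ← Finset.sum_add_distrib]
      exact Finset.sum_congr rfl fun i _ => by rw [smul_eq_mul, hc]; ring
    refine ⟨a, _, ?_, hsum⟩
    have : (∑ i, a i * c i) * x ∈ P := by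
      rw [show (∑ i, a i * c i) * x = y - ∑ i, a i * p i by rw [eq_sub_iff_add_eq', ← hsum]]
      exact sub_mem hy (P.sum_mem fun i _ => P.mul_mem_left _ (hp i))
    exact (hPp.mem_or_mem this).resolve_right hxP
  choose a b hb hab using hstep
  refine ⟨Finset.univ.image p, le_antisymm (Submodule.span_le.2 ?_) fun y hy => ?_⟩
  · rintro z hz
    obtain ⟨i, -, rfl⟩ := Finset.mem_image.1 hz
    exact hp i
  let Y : ℕ → P := fun k => Nat.rec (motive := fun _ => P) ⟨y, hy⟩ (fun _ z => ⟨b z.1 z.2, hb z.1 z.2⟩) k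
  let A : ℕ → Fin n → S := fun k i => ∑ l ∈ Finset.range k, a (Y l).1 (Y l).2 i * x ^ l
  have hA : ∀ k, y = ∑ i, A k i * p i + (Y k).1 * x ^ k := by
    intro k
    induction k with
    | zero => simp [A, Y]
    | succ k ih =>
      have h : (Y k).1 = ∑ i, a (Y k).1 (Y k).2 i * p i + (Y (k + 1)).1 * x := hab (Y k).1 (Y k).2
      calc y = ∑ i, A k i * p i + (Y k).1 * x ^ k := ih
        _ = ∑ i, A k i * p i + (∑ i, a (Y k).1 (Y k).2 i * p i + (Y (k + 1)).1 * x) * x ^ k := by rw [← h]
        _ = _ := by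
          simp only [A, Finset.sum_range_succ, add_mul, Finset.sum_add_distrib, Finset.sum_mul, pow_succ]
          rw [add_assoc]
          congr 1
          congr 1
          · exact Finset.sum_congr rfl fun i _ => by ring
          · ring
  choose L hL using fun i => exists_limit (I := J) (fun k => A k i) fun k => by
    rw [mem_pow_smul_top_self]
    simp only [A, Finset.sum_range_succ, add_sub_cancel_left]
    exact Ideal.mul_mem_left _ _ (Ideal.pow_mem_pow hxJ k)
  have : y - ∑ i, L i * p i = 0 := eq_zero_of_forall_mem (I := J) fun k => by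
    rw [mem_pow_smul_top_self]
    conv in y - _ => rw [hA k]
    rw [add_sub_right_comm, ← Finset.sum_sub_distrib]
    refine add_mem (Ideal.sum_mem _ fun i _ => ?_) (Ideal.mul_mem_left _ _ (Ideal.pow_mem_pow hxJ k))
    rw [← sub_mul]
    exact Ideal.mul_mem_right _ _ (mem_pow_smul_top_self.1 (hL i k))
  rw [sub_eq_zero.1 this]
  exact Submodule.sum_mem _ fun i _ => Submodule.smul_mem _ _
    (Submodule.subset_span (Finset.mem_coe.2 (Finset.mem_image_of_mem p (Finset.mem_univ i))))

theorem isNoetherianRing_adicCompletion_of_fg {R : Type u} [CommRing R] (I : Ideal R) (hI : I.FG)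
    [IsNoetherianRing (R ⧸ I)] : IsNoetherianRing (AdicCompletion I R) := by
  haveI := AdicCompletion.isAdicComplete_self I hI
  haveI : IsNoetherianRing (AdicCompletion I R ⧸ I.map (algebraMap R (AdicCompletion I R))) :=
    isNoetherianRing_of_ringEquiv _ ((Ideal.quotEquivOfEq (AdicCompletion.ker_evalOneₐ_eq_map I hI).symm).trans
      (RingHom.quotientKerEquivOfSurjective (AdicCompletion.evalOneₐ_surjective I))).symm
  exact isNoetherianRing_of_isAdicComplete (I.map (algebraMap R (AdicCompletion I R))) (hI.map _)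

/-- Completeness passes to a smaller finitely generated ideal. -/
theorem isAdicComplete_of_le {A : Type u} [CommRing A] {I J : Ideal A} (hIJ : I ≤ J) (hI : I.FG)
    (M : Type u) [AddCommGroup M] [Module A M] [IsAdicComplete J M] : IsAdicComplete I M := by
  classical
  have hle : ∀ n, (I ^ n • ⊤ : Submodule A M) ≤ J ^ n • ⊤ := fun n =>
    Submodule.smul_mono_left (Ideal.pow_right_mono hIJ n)
  haveI : IsHausdorff I M := ⟨fun x hx => eq_zero_of_forall_mem (I := J) fun n =>
    hle n (by simpa [SModEq.zero] using hx n)⟩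
  haveI : IsPrecomplete I M := isPrecomplete_of_exists_limit fun f hf => by
    obtain ⟨L, hL⟩ := exists_limit (I := J) f fun n => hle n (hf n)
    refine ⟨L, fun n => ?_⟩
    obtain ⟨r, g, hg⟩ := Submodule.fg_iff_exists_fin_generating_family.1 (Ideal.FG.pow (n := n) hI)
    have hex : ∀ t, ∃ μ : Fin r → M, (∀ l, μ l ∈ (I ^ t • ⊤ : Submodule A M)) ∧
        f (n + t + 1) - f (n + t) = ∑ l, g l • μ l := by
      intro t
      have h : f (n + t + 1) - f (n + t) ∈ (I ^ n • (I ^ t • ⊤ : Submodule A M)) := by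
        rw [← Submodule.mul_smul, ← pow_add]; exact hf (n + t)
      generalize f (n + t + 1) - f (n + t) = z at h
      refine Submodule.smul_induction_on h (fun a ha m hm => ?_) fun x y hx hy => ?_
      · rw [← hg] at ha
        obtain ⟨α, hα⟩ := (Submodule.mem_span_range_iff_exists_fun A).1 ha
        refine ⟨fun l => α l • m, fun l => Submodule.smul_mem _ _ hm, ?_⟩
        simp_rw [← hα, Finset.sum_smul, smul_eq_mul, mul_comm (α _), mul_smul]
      · obtain ⟨μ, h1, rfl⟩ := hx
        obtain ⟨ν, h2, rfl⟩ := hy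
        exact ⟨μ + ν, fun l => add_mem (h1 l) (h2 l), by simp [smul_add, Finset.sum_add_distrib]⟩
    choose μ hμ hfμ using hex
    choose ν hν using fun l => exists_limit (I := J) (fun T => ∑ t ∈ Finset.range T, μ t l) fun T => by
      simp only [Finset.sum_range_succ, add_sub_cancel_left]
      exact hle T (hμ T l)
    have htel : ∀ T, f (n + T) - f n = ∑ l, g l • ∑ t ∈ Finset.range T, μ t l := by
      intro T
      induction T with
      | zero => simp
      | succ T ih =>
        rw [← sub_add_sub_cancel (f (n + (T + 1))) (f (n + T)), ih, ← add_assoc n T 1, hfμ]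
        simp only [Finset.sum_range_succ, smul_add, Finset.sum_add_distrib]
        abel
    have key : L - f n - ∑ l, g l • ν l = 0 := eq_zero_of_forall_mem (I := J) fun T => by
      have : L - f n - ∑ l, g l • ν l = -(f (n + T) - L) + ∑ l, g l • ((∑ t ∈ Finset.range T, μ t l) - ν l) := by
        rw [neg_sub, Finset.sum_congr rfl (fun l _ => smul_sub (g l) _ _), Finset.sum_sub_distrib, ← htel]
        abel
      rw [this]
      exact add_mem (neg_mem (pow_smul_top_mono (Nat.le_add_left T n) (hL (n + T))))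
        (Submodule.sum_mem _ fun l _ => Submodule.smul_mem _ _ (hν l T))
    rw [← neg_sub, neg_mem_iff, sub_eq_zero.1 key]
    exact Submodule.sum_mem _ fun l _ => Submodule.smul_mem_smul (hg ▸ Submodule.subset_span ⟨l, rfl⟩) trivial
  exact ⟨⟩

/-- Finiteness of a separated module with finite reduction over a complete ring. -/
theorem finite_of_finite_quotient {R : Type u} [CommRing R] (I : Ideal R) [IsAdicComplete I R]
    (M : Type u) [AddCommGroup M] [Module R M] [IsHausdorff I M]
    (h : Module.Finite R (M ⧸ (I • ⊤ : Submodule R M))) : Module.Finite R M := by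
  obtain ⟨n, g, hg⟩ := Module.Finite.exists_fin' R (M ⧸ (I • ⊤ : Submodule R M))
  obtain ⟨l, hl⟩ := Module.projective_lifting_property (Submodule.mkQ _) g (Submodule.mkQ_surjective _)
  haveI : IsPrecomplete I (Fin n → R) := isPrecomplete_of_exists_limit fun f hf => by
    have hp : ∀ i m, ∀ v ∈ (I ^ m • ⊤ : Submodule R (Fin n → R)), v i ∈ (I ^ m • ⊤ : Submodule R R) := by
      intro i m v hv
      refine Submodule.smul_induction_on hv (fun a ha w _ => ?_) fun x y hx hy => add_mem hx hy
      exact Submodule.smul_mem_smul ha trivial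
    choose L hL using fun i => exists_limit (I := I) (fun k => f k i) fun k => hp i k _ (hf k)
    refine ⟨L, fun k => ?_⟩
    rw [← Finset.univ_sum_single (f k - L)]
    refine Submodule.sum_mem _ fun i _ => ?_
    exact (Submodule.map_le_iff_le_comap.1 ((Submodule.map_smul'' (I ^ k) ⊤
      (LinearMap.single R (fun _ : Fin n => R) i)).trans_le (smul_mono_right _ le_top)))
      (hL i k)
  refine Module.Finite.of_surjective l (surjective_of_mkQ_comp_surjective (I := I) ?_)
  intro y
  obtain ⟨v, hv⟩ := hg y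
  exact ⟨v, (LinearMap.congr_fun hl v).trans hv⟩

/-- Completeness along `J` from completeness along `I` and completeness of the quotient. -/
theorem isAdicComplete_of_quotient {A : Type u} [CommRing A] [IsNoetherianRing A] (I J : Ideal A)
    [IsAdicComplete I A] [IsAdicComplete (J.map (Ideal.Quotient.mk I)) (A ⧸ I)] :
    IsAdicComplete J A := by
  classical
  have hJ : J ≤ Ideal.jacobson ⊥ := by
    intro x hx
    rw [Ideal.mem_jacobson_bot]
    intro y
    have h1 : IsUnit (Ideal.Quotient.mk I (x * y + 1)) := by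
      rw [map_add, map_mul, map_one]
      exact (Ideal.mem_jacobson_bot.1 (IsAdicComplete.le_jacobson_bot (J.map (Ideal.Quotient.mk I))
        (Ideal.mem_map_of_mem _ hx))) _
    obtain ⟨v, hv⟩ := h1.exists_right_inv
    obtain ⟨w, rfl⟩ := Ideal.Quotient.mk_surjective v
    rw [← map_mul, ← map_one (Ideal.Quotient.mk I), Ideal.Quotient.eq] at hv
    have h2 := (Ideal.mem_jacobson_bot.1 (IsAdicComplete.le_jacobson_bot I hv)) 1
    rw [mul_one, sub_add_cancel] at h2
    exact isUnit_of_mul_isUnit_left h2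
  haveI : IsHausdorff J A := IsHausdorff.of_le_jacobson J A hJ
  haveI : IsPrecomplete J A := isPrecomplete_of_exists_limit fun f hf => by
    simp only [mem_pow_smul_top_self] at hf
    have hcau : ∀ m k, f (m + k) - f m ∈ J ^ m := by
      intro m k
      induction k with
      | zero => simp
      | succ k ih =>
        rw [← sub_add_sub_cancel (f (m + (k + 1))) (f (m + k))]
        exact add_mem (Ideal.pow_le_pow_right (Nat.le_add_right m k) (hf (m + k))) ih
    have step : ∀ k a, (∀ n, f n - a ∈ J ^ n ⊔ I ^ k) →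
        ∃ a', a' - a ∈ I ^ k ∧ ∀ n, f n - a' ∈ J ^ n ⊔ I ^ (k + 1) := by
      intro k a ha
      choose j hj i hi hji using fun n => Submodule.mem_sup.1 (ha n)
      have hdiff : ∀ n, i (n + 1) - i n ∈ J ^ n := fun n => by
        have : i (n + 1) - i n = (f (n + 1) - f n) - j (n + 1) + j n := by
          rw [eq_sub_of_add_eq' (hji (n + 1)), eq_sub_of_add_eq' (hji n)]; ring
        rw [this]
        exact add_mem (sub_mem (hf n) (Ideal.pow_le_pow_right (Nat.le_succ n) (hj (n + 1)))) (hj n)
      obtain ⟨c, hc⟩ := Ideal.exists_pow_inf_eq_pow_smul (M := A) J (I ^ k)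
      obtain ⟨r, g, hg⟩ := Submodule.fg_iff_exists_fin_generating_family.1
        (IsNoetherian.noetherian (I ^ k))
      have hex : ∀ m, ∃ δ : Fin r → A, (∀ l, δ l ∈ J ^ m) ∧ i (c + m + 1) - i (c + m) = ∑ l, δ l * g l := by
        intro m
        have h : i (c + m + 1) - i (c + m) ∈ (J ^ m • (I ^ k) : Submodule A A) := by
          have h1 : i (c + m + 1) - i (c + m) ∈ (J ^ (c + m) • ⊤ ⊓ (I ^ k) : Submodule A A) :=
            ⟨mem_pow_smul_top_self.2 (hdiff _), sub_mem (hi _) (hi _)⟩
          rw [hc _ (Nat.le_add_right c m), Nat.add_sub_cancel_left] at h1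
          exact SetLike.le_def.mp (smul_mono_right _ inf_le_right) h1
        generalize i (c + m + 1) - i (c + m) = z at h
        refine Submodule.smul_induction_on h (fun s hs t ht => ?_) fun x y hx hy => ?_
        · rw [← hg] at ht
          obtain ⟨α, hα⟩ := (Submodule.mem_span_range_iff_exists_fun A).1 ht
          refine ⟨fun l => s * α l, fun l => Ideal.mul_mem_right _ _ hs, ?_⟩
          rw [← hα, Finset.smul_sum]
          exact Finset.sum_congr rfl fun l _ => by simp [mul_assoc]
        · obtain ⟨μ, h1, rfl⟩ := hx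
          obtain ⟨ν, h2, rfl⟩ := hy
          exact ⟨μ + ν, fun l => add_mem (h1 l) (h2 l), by simp [add_mul, Finset.sum_add_distrib]⟩
      choose δ hδ hiδ using hex
      have hlim : ∀ l, ∃ α : A, ∀ m, (∑ t ∈ Finset.range m, δ t l) - α ∈ J ^ m ⊔ I := by
        intro l
        obtain ⟨q, hq⟩ := exists_limit (I := J.map (Ideal.Quotient.mk I))
          (fun m => Ideal.Quotient.mk I (∑ t ∈ Finset.range m, δ t l)) fun m => by
          rw [mem_pow_smul_top_self, ← Ideal.map_pow, ← map_sub, Finset.sum_range_succ, add_sub_cancel_left]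
          exact Ideal.mem_map_of_mem _ (hδ m l)
        obtain ⟨α, rfl⟩ := Ideal.Quotient.mk_surjective q
        refine ⟨α, fun m => ?_⟩
        have := hq m
        rw [mem_pow_smul_top_self, ← Ideal.map_pow, ← map_sub, ← Ideal.mem_comap,
          Ideal.comap_map_of_surjective _ Ideal.Quotient.mk_surjective, ← RingHom.ker_eq_comap_bot,
          Ideal.mk_ker] at this
        exact this
      choose α hα using hlim
      refine ⟨a + i c + ∑ l, α l * g l, ?_, fun n => ?_⟩
      · rw [add_assoc, add_sub_cancel_left]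
        exact add_mem (hi c) (Ideal.sum_mem _ fun l _ => Ideal.mul_mem_left _ _ (hg ▸ Submodule.subset_span ⟨l, rfl⟩))
      have htel : ∀ m, i (c + m) - i c = ∑ l, (∑ t ∈ Finset.range m, δ t l) * g l := by
        intro m
        induction m with
        | zero => simp
        | succ m ih =>
          rw [← sub_add_sub_cancel (i (c + (m + 1))) (i (c + m)), ih, ← add_assoc c m 1, hiδ]
          simp only [Finset.sum_range_succ, add_mul, Finset.sum_add_distrib]
          ring
      have hsplit : f n - (a + i c + ∑ l, α l * g l) = - (f (n + c) - f n) + j (n + c) +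
          ∑ l, ((∑ t ∈ Finset.range n, δ t l) - α l) * g l := by
        simp only [sub_mul, Finset.sum_sub_distrib]
        rw [← htel, add_comm c n, eq_sub_of_add_eq (hji (n + c))]
        ring
      rw [hsplit]
      refine add_mem (Ideal.mem_sup_left (add_mem (neg_mem (hcau n c))
        (Ideal.pow_le_pow_right (Nat.le_add_right n c) (hj (n + c))))) (Ideal.sum_mem _ fun l _ => ?_)
      have hgl : g l ∈ I ^ k := hg ▸ Submodule.subset_span ⟨l, rfl⟩
      obtain ⟨u, hu, v, hv, huv⟩ := Submodule.mem_sup.1 (hα l n)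
      rw [← huv, add_mul]
      exact add_mem (Ideal.mem_sup_left (Ideal.mul_mem_right _ _ hu))
        (Ideal.mem_sup_right (by rw [pow_succ']; exact Ideal.mul_mem_mul hv hgl))
    choose next hnext₁ hnext₂ using step
    let st : ∀ k, {a : A // ∀ n, f n - a ∈ J ^ n ⊔ I ^ k} := fun k =>
      Nat.rec (motive := fun k => {a : A // ∀ n, f n - a ∈ J ^ n ⊔ I ^ k})
        ⟨0, fun n => by simp⟩ (fun k s => ⟨next k s.1 s.2, hnext₂ k s.1 s.2⟩) k
    obtain ⟨L, hL⟩ := exists_limit (I := I) (fun k => (st k).1) fun k => by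
      rw [mem_pow_smul_top_self]; exact hnext₁ k (st k).1 (st k).2
    refine ⟨L, fun n => ?_⟩
    rw [mem_pow_smul_top_self]
    haveI : IsHausdorff I (A ⧸ J ^ n) := IsHausdorff.of_le_jacobson I _ (IsAdicComplete.le_jacobson_bot I)
    apply Ideal.Quotient.eq_zero_iff_mem.1
    refine eq_zero_of_forall_mem (I := I) fun k => ?_
    have h1 : f n - L ∈ J ^ n ⊔ I ^ k := by
      rw [← sub_add_sub_cancel (f n) (st k).1 L]
      exact add_mem ((st k).2 n) (Ideal.mem_sup_right (mem_pow_smul_top_self.1 (hL k)))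
    obtain ⟨u, hu, v, hv, huv⟩ := Submodule.mem_sup.1 h1
    rw [← huv, map_add, Ideal.Quotient.eq_zero_iff_mem.2 hu, zero_add]
    have := Submodule.smul_mem_smul (r := v) (n := (1 : A ⧸ J ^ n)) hv (Submodule.mem_top (R := A) (x := (1 : A ⧸ J ^ n)))
    simpa [Algebra.smul_def] using this
  exact ⟨⟩

/-- A submodule of a finite module is closed for an adic topology inside the Jacobson radical. -/
theorem mem_of_forall_mem_sup {R : Type u} [CommRing R] [IsNoetherianRing R] {I : Ideal R}
    (hI : I ≤ Ideal.jacobson ⊥) {M : Type u} [AddCommGroup M] [Module R M] [Module.Finite R M]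
    (H : Submodule R M) {x : M} (h : ∀ m : ℕ, x ∈ H ⊔ I ^ m • ⊤) : x ∈ H := by
  haveI : IsHausdorff I (M ⧸ H) := IsHausdorff.of_le_jacobson I _ hI
  refine (Submodule.Quotient.mk_eq_zero H).1 (eq_zero_of_forall_mem (I := I) fun m => ?_)
  obtain ⟨u, hu, v, hv, rfl⟩ := Submodule.mem_sup.1 (h m)
  rw [Submodule.Quotient.mk_add, (Submodule.Quotient.mk_eq_zero H).2 hu, zero_add]
  have := Submodule.mem_map_of_mem (f := H.mkQ) hv
  rw [Submodule.map_smul'', Submodule.map_top, Submodule.range_mkQ] at this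
  exact this

/-- A left inverse exists if one exists modulo arbitrarily high powers. -/
theorem exists_retraction_of_mod_powers {R M N : Type u} [CommRing R] [IsNoetherianRing R] (I : Ideal R)
    (hI : I ≤ Ideal.jacobson ⊥) [AddCommGroup M] [Module R M] [Module.Finite R M] [AddCommGroup N]
    [Module R N] [Module.Finite R N] (u : N →ₗ[R] M)
    (h : ∀ n₀ : ℕ, ∃ n, n₀ ≤ n ∧ ∃ s : (M ⧸ (I ^ n) • (⊤ : Submodule R M)) →ₗ[R]
      (N ⧸ (I ^ n) • (⊤ : Submodule R N)),
      ∀ x : N, s (Submodule.Quotient.mk (u x)) = Submodule.Quotient.mk x) :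
    ∃ s : M →ₗ[R] N, s.comp u = LinearMap.id := by
  classical
  haveI := Module.finitePresentation_of_finite R M
  obtain ⟨a, c, π, d, hπ, hd⟩ := Module.FinitePresentation.exists_fin' R M
  obtain ⟨b, q, hq⟩ := Module.Finite.exists_fin' R N
  choose w hw using fun t : Fin b => hπ (u (q (Pi.single t 1)))
  let P : (Fin a → R) → ((Fin a → N) →ₗ[R] N) := fun v =>
    ∑ i, v i • LinearMap.proj (R := R) (φ := fun _ : Fin a => N) i
  have hP : ∀ v y, P v y = ∑ i, v i • y i := fun v y => by simp [P]
  let T : (Fin a → N) →ₗ[R] (Fin c → N) := LinearMap.pi fun j => P (d (Pi.single j 1))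
  let W : (Fin a → N) →ₗ[R] (Fin b → N) := LinearMap.pi fun t => P (w t)
  let H : Submodule R (Fin b → N) := (LinearMap.ker T).map W
  obtain ⟨k, hk⟩ := Ideal.exists_pow_inf_eq_pow_smul (M := Fin c → N) I (LinearMap.range T)
  have hmem : ∀ m, (fun t => q (Pi.single t 1)) ∈ H ⊔ I ^ m • (⊤ : Submodule R (Fin b → N)) := by
    intro m
    obtain ⟨n, hn, s, hs⟩ := h (m + k)
    choose σ hσ using fun i : Fin a => Submodule.mkQ_surjective _ (s (Submodule.Quotient.mk (π (Pi.single i 1))))
    have hsv : ∀ v : Fin a → R, s (Submodule.Quotient.mk (π v)) =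
        Submodule.Quotient.mk (P v σ) := fun v => by
      conv_lhs => rw [pi_eq_sum_univ' v]
      rw [hP, map_sum, ← Submodule.mkQ_apply, map_sum, map_sum, ← Submodule.mkQ_apply, map_sum]
      refine Finset.sum_congr rfl fun i _ => ?_
      rw [map_smul, map_smul, map_smul, map_smul]
      congr 1
      exact (hσ i).symm
    have hpi : ∀ {J : Ideal R} {l : ℕ} (y : Fin l → N), (∀ i, y i ∈ J • (⊤ : Submodule R N)) →
        y ∈ J • (⊤ : Submodule R (Fin l → N)) := fun {J l} y hy => by
      rw [← Finset.univ_sum_single y]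
      exact Submodule.sum_mem _ fun i _ => Submodule.map_le_iff_le_comap.1
        ((Submodule.map_smul'' J ⊤ (LinearMap.single R (fun _ : Fin l => N) i)).trans_le
          (smul_mono_right _ le_top)) (hy i)
    have hT : T σ ∈ (I ^ n • ⊤ ⊓ LinearMap.range T : Submodule R (Fin c → N)) := by
      refine ⟨hpi _ fun j => ?_, ⟨σ, rfl⟩⟩
      show P (d (Pi.single j 1)) σ ∈ _
      rw [← Submodule.Quotient.mk_eq_zero, ← hsv, hd.apply_apply_eq_zero, Submodule.Quotient.mk_zero, map_zero]
    rw [hk n (by omega)] at hT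
    have hT' : T σ ∈ (I ^ (n - k) • (⊤ : Submodule R (Fin a → N))).map T := by
      rw [Submodule.map_smul'', Submodule.map_top]
      exact SetLike.le_def.mp (smul_mono_right _ inf_le_right) hT
    obtain ⟨e, he, hTe⟩ := hT'
    have hWe : W e ∈ I ^ m • (⊤ : Submodule R (Fin b → N)) := by
      have := Submodule.mem_map_of_mem (f := W) he
      rw [Submodule.map_smul''] at this
      exact Submodule.smul_mono (Ideal.pow_le_pow_right (by omega)) le_top this
    have hWσ : (fun t => q (Pi.single t 1)) - W σ ∈ I ^ m • (⊤ : Submodule R (Fin b → N)) := by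
      refine Submodule.smul_mono_left (Ideal.pow_le_pow_right (by omega : m ≤ n)) (hpi _ fun t => ?_)
      show q (Pi.single t 1) - P (w t) σ ∈ _
      rw [← Submodule.Quotient.eq, ← hsv, hw, hs]
    rw [show (fun t => q (Pi.single t 1)) = W (σ - e) + (W e + ((fun t => q (Pi.single t 1)) - W σ)) by
      rw [map_sub]; abel]
    exact add_mem (Submodule.mem_sup_left ⟨σ - e, by
      rw [SetLike.mem_coe, LinearMap.mem_ker, map_sub, hTe, sub_self], rfl⟩)
      (Submodule.mem_sup_right (add_mem hWe hWσ))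
  obtain ⟨σ, hσ, hWσ⟩ := mem_of_forall_mem_sup hI H hmem
  let S₀ : (Fin a → R) →ₗ[R] N := Fintype.linearCombination R σ
  have hS₀ : ∀ v, S₀ v = P v σ := fun v => by rw [hP, Fintype.linearCombination_apply]
  have hker : LinearMap.ker π ≤ LinearMap.ker S₀ := by
    rw [hd.linearMap_ker_eq]
    rintro _ ⟨z, rfl⟩
    rw [LinearMap.mem_ker]
    show (S₀ ∘ₗ d) z = 0
    have : S₀ ∘ₗ d = 0 := (Pi.basisFun R (Fin c)).ext fun j => by
      rw [Pi.basisFun_apply, LinearMap.comp_apply, hS₀, LinearMap.zero_apply]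
      exact congrFun hσ j
    rw [this, LinearMap.zero_apply]
  let s := (LinearMap.ker π).liftQ S₀ hker ∘ₗ (π.quotKerEquivOfSurjective hπ).symm.toLinearMap
  have hsπ : ∀ v, s (π v) = S₀ v := fun v => by
    have : (π.quotKerEquivOfSurjective hπ).symm (π v) = Submodule.Quotient.mk v := by
      rw [LinearEquiv.symm_apply_eq]; rfl
    simp [s, this]
  refine ⟨s, ?_⟩
  have : (s ∘ₗ u) ∘ₗ q = q := (Pi.basisFun R (Fin b)).ext fun t => by
    rw [Pi.basisFun_apply, LinearMap.comp_apply, LinearMap.comp_apply, ← hw, hsπ, hS₀]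
    exact congrFun hWσ t
  exact LinearMap.ext fun y => by
    obtain ⟨v, rfl⟩ := hq y
    exact LinearMap.congr_fun this v

end Groth.Agent.CAlgCompl
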