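import Mathlib
import Groth.Agent.AdicNoeth.Basic
import Groth.Agent.CAlgReg.Basic

/-!
Dimension and regularity of the completion of a Noetherian local ring.
-/

namespace Groth.Agent.CAlgCompl

open IsLocalRing

universe u

variable (A : Type u) [CommRing A] [IsLocalRing A] [IsNoetherianRing A]

theorem ringKrullDim_adicCompletion :
    ringKrullDim (AdicCompletion (maximalIdeal A) A) = ringKrullDim A := by
  classical
  let B := AdicCompletion (maximalIdeal A) A
  haveI : IsNoetherianRing B := AdicNoeth.isNoetherianRing_adicCompletion _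
  haveI : (maximalIdeal B).LiesOver (maximalIdeal A) :=
    ⟨(IsLocalRing.maximalIdeal_comap (algebraMap A B)).symm⟩
  refine le_antisymm ?_ ?_
  · obtain ⟨s, hs, hcard⟩ := (maximalIdeal A).exists_finset_card_eq_height_of_isNoetherianRing
    rw [← maximalIdeal_height_eq_ringKrullDim, ← maximalIdeal_height_eq_ringKrullDim, WithBot.coe_le_coe,
      ← hcard]
    refine le_trans (Ideal.height_le_card_of_mem_minimalPrimes_span_finset (s := s.image (algebraMap A B)) ?_)
      (by exact_mod_cast Finset.card_image_le)
    rw [Finset.coe_image, ← Ideal.map_span]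
    refine ⟨⟨inferInstance, ?_⟩, fun Q hQ _ => ?_⟩
    · rw [AdicCompletion.maximalIdeal_eq_map]
      exact Ideal.map_mono hs.1.2
    · haveI := hQ.1
      rw [AdicCompletion.maximalIdeal_eq_map, Ideal.map_le_iff_le_comap]
      refine hs.2 ⟨inferInstance, Ideal.map_le_iff_le_comap.1 hQ.2⟩ ?_
      exact IsLocalRing.le_maximalIdeal (Ideal.IsPrime.ne_top inferInstance)
  · rw [← maximalIdeal_height_eq_ringKrullDim, ← maximalIdeal_height_eq_ringKrullDim, WithBot.coe_le_coe,
      Ideal.height_eq_height_add_of_liesOver_of_hasGoingDown (maximalIdeal A) (maximalIdeal B)]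
    exact le_self_add

theorem isRegularLocalRing_adicCompletion_iff :
    IsRegularLocalRing A ↔ IsRegularLocalRing (AdicCompletion (maximalIdeal A) A) := by
  haveI : IsNoetherianRing (AdicCompletion (maximalIdeal A) A) := AdicNoeth.isNoetherianRing_adicCompletion _
  rw [isRegularLocalRing_iff, isRegularLocalRing_iff, ringKrullDim_adicCompletion,
    AdicCompletion.spanFinrank_maximalIdeal_eq]

theorem exists_dvr_iff :
    (∃ _ : IsDomain A, IsDiscreteValuationRing A) ↔
      ∃ _ : IsDomain (AdicCompletion (maximalIdeal A) A),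
        IsDiscreteValuationRing (AdicCompletion (maximalIdeal A) A) := by
  haveI : IsNoetherianRing (AdicCompletion (maximalIdeal A) A) := AdicNoeth.isNoetherianRing_adicCompletion _
  have key : ∀ (S : Type u) [CommRing S] [IsLocalRing S] [IsNoetherianRing S],
      (∃ _ : IsDomain S, IsDiscreteValuationRing S) ↔
        (ringKrullDim S = 1 ∧ (maximalIdeal S).spanFinrank = 1) := by
    intro S _ _ _
    constructor
    · rintro ⟨_, _⟩
      exact ⟨IsDiscreteValuationRing.ringKrullDim_eq_one S, by
        rw [spanFinrank_maximalIdeal_eq_finrank_cotangentSpace, IsLocalRing.finrank_CotangentSpace_eq_one]⟩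
    · rintro ⟨h1, h2⟩
      haveI : IsRegularLocalRing S := (isRegularLocalRing_iff S).2 (by rw [h1, h2]; rfl)
      haveI : IsDomain S := CAlgReg.isDomain (R := S)
      exact ⟨inferInstance, IsLocalRing.finrank_CotangentSpace_eq_one_iff.1
        (by rw [← spanFinrank_maximalIdeal_eq_finrank_cotangentSpace, h2])⟩
  rw [key, key, ringKrullDim_adicCompletion, AdicCompletion.spanFinrank_maximalIdeal_eq]

end Groth.Agent.CAlgCompl
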